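import Cfsg.Agent.H37.SUThreeGen

/-!
Eichler elements in a subgroup and a field lemma, for two generators of `SU_n`.
-/

set_option autoImplicit false

namespace H45.SUTwo

open Matrix Cfsg H50 H37

universe u

variable {F : Type u} [Field F] [Fintype F] {q n : ℕ} (hF : Fintype.card F = q ^ 2)
  {e f w w' : Fin n → F} {γ γ' : F}

include hF

theorem rescale {s : F} {g : SU n F q} (h : IsEich (s • e) w γ g) :
    IsEich e (s ^ q • w) (γ * (s * s ^ q)) g := fun x => by
  rw [h, h_smul_right hF, h_smul_right hF, pow_q_pow_q hF]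
  module

theorem swap {g : SU n F q} (h : IsEich e w 0 g) : IsEich w (-e) 0 g := fun x => by
  rw [h, h_neg_right hF]
  module

theorem conj_eig {k g : SU n F q} {l : F} {e' w' : Fin n → F} (h : IsEich e w γ g)
    (he : suMat k *ᵥ e = l • e') (hw : suMat k *ᵥ w = w') :
    IsEich e' (l ^ q • w') (γ * (l * l ^ q)) (k * g * k⁻¹) := by
  have := h.conj k
  rw [he, hw] at this
  exact rescale hF this

theorem eq_one_of_zero {g : SU n F q} (h : IsEich e 0 0 g) : g = 1 := suMat_ext fun x => by
  rw [h, h_zero_right hF, suMat_one, one_mulVec]; simp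

/-- The commutator of two radical elements is central. -/
theorem comm_center {g g' : SU n F q} (h : IsEich e w γ g) (h' : IsEich e w' γ' g')
    (he : hermForm n F q e e = 0) (hwe : hermForm n F q w e = 0) (hwe' : hermForm n F q w' e = 0) :
    IsEich e 0 (hermForm n F q w w' - hermForm n F q w' w) (g * g' * g⁻¹ * g'⁻¹) := by
  have h1 := h.mul hF h' he hwe hwe'
  have h2 := h'.mul hF h he hwe' hwe
  set d := hermForm n F q w w' - hermForm n F q w' w with hd
  have hdd : d + d ^ q + hermForm n F q (0 : Fin n → F) 0 = 0 := by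
    rw [h_zero_left, hd, sub_pow_q hF, ← h_symm hF, ← h_symm hF]; ring
  obtain ⟨t, ht⟩ := exists_isEich hF he (h_zero_left e) hdd
  have h3 := ht.mul hF h2 he (h_zero_left e) (by rw [h_add_left, hwe', hwe, add_zero])
  rw [zero_add, h_zero_right hF, sub_zero, add_comm w' w,
    show d + (γ' + γ - hermForm n F q w w') = γ + γ' - hermForm n F q w' w by rw [hd]; ring] at h3
  have : g * g' * g⁻¹ * g'⁻¹ = t := by
    rw [h1.unique h3]; group
  rwa [this]

/-- Every trace-zero element is `c - c ^ q`. -/
theorem exists_sub_pow {d : F} (hd : d + d ^ q = 0) : ∃ c : F, c - c ^ q = d := by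
  obtain ⟨θ, hθ⟩ := exists_trace_eq hF (one_pow q)
  refine ⟨θ * d, ?_⟩
  rw [mul_pow, show d ^ q = -d by linear_combination hd]
  linear_combination d * hθ

variable {K : Subgroup (SU n F q)}

/-- Commutators of radical parts. -/
theorem center_mem (hf : IsHyp q e f) (hwe : hermForm n F q w e = 0)
    (hwf : hermForm n F q w f = 0) (hwe' : hermForm n F q w' e = 0)
    (hwf' : hermForm n F q w' f = 0) (hw : w ∈ radParts K e f) (hw' : w' ∈ radParts K e f) :
    ∃ g ∈ K, IsEich e 0 (hermForm n F q w w' - hermForm n F q w' w) g := by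
  obtain ⟨-, g, hg, hgQ, c, hc⟩ := hw
  obtain ⟨-, g', hg', hgQ', c', hc'⟩ := hw'
  exact ⟨_, mul_mem (mul_mem (mul_mem hg hg') (inv_mem hg)) (inv_mem hg'),
    comm_center hF (isEich_of_inQ hF hf hgQ hwe hwf hc) (isEich_of_inQ hF hf hgQ' hwe' hwf' hc')
      hf.1 hwe hwe'⟩

/-- With the centre, a radical part gives all elements with this part. -/
theorem eich_mem (hf : IsHyp q e f) (hT : ∀ d : F, d + d ^ q = 0 → ∃ g ∈ K, IsEich e 0 d g)
    (hwe : hermForm n F q w e = 0) (hwf : hermForm n F q w f = 0)
    (hw : w ∈ radParts K e f) {g₀ : SU n F q} (h₀ : IsEich e w γ g₀) : g₀ ∈ K := by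
  obtain ⟨-, g, hg, hgQ, c, hc⟩ := hw
  have h := isEich_of_inQ hF hf hgQ hwe hwf hc
  have t₁ := h.trace hF hf hwe hwf
  have t₂ := h₀.trace hF hf hwe hwf
  obtain ⟨t, ht, htE⟩ := hT (γ - c) (by rw [sub_pow_q hF]; linear_combination t₂ - t₁)
  have h' := htE.mul hF h hf.1 (h_zero_left e) hwe
  rw [zero_add, h_zero_right hF, sub_zero, sub_add_cancel] at h'
  rw [h₀.unique h']
  exact mul_mem ht hg

end H45.SUTwo

namespace H45.SUTwo

open H50

variable {F : Type*} [Field F] [Fintype F] {q : ℕ} (hF : Fintype.card F = q ^ 2)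
include hF

/-- An element with no small power one generates the field. -/
theorem subring_top {y : F} (hy0 : y ≠ 0) (hy : ∀ j, 0 < j → j < q → y ^ j ≠ 1) (R : Subring F)
    (hR : y ∈ R) :
    R = ⊤ := by
  classical
  have hinv : ∀ x ∈ R, x⁻¹ ∈ R := by
    intro x hx
    rcases eq_or_ne x 0 with rfl | hx0
    · simp [R.zero_mem]
    · have h1 := FiniteField.pow_card_sub_one_eq_one x hx0
      have h2 : 1 < Fintype.card F := Fintype.one_lt_card
      rw [show Fintype.card F - 1 = Fintype.card F - 2 + 1 by omega, pow_succ] at h1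
      rw [← eq_inv_of_mul_eq_one_left h1]
      exact R.pow_mem hx _
  let K : Subfield F := { R with inv_mem' := hinv }
  by_contra hne
  obtain ⟨x, hx⟩ : ∃ x, x ∉ K := by
    by_contra h
    push Not at h
    exact hne (eq_top_iff.2 fun x _ => h x)
  have h1 := Module.card_eq_pow_finrank (K := K) (V := F)
  have hr : 2 ≤ Module.finrank K F := by
    by_contra h
    have h' : Module.finrank K F = 1 := by
      have := Module.finrank_pos (R := K) (M := F)
      omega
    obtain ⟨c, hc⟩ := (finrank_eq_one_iff_of_nonzero' (1 : F) one_ne_zero).1 h' x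
    exact hx (by rw [← hc, Subfield.smul_def, smul_eq_mul, mul_one]; exact c.2)
  have hK : Fintype.card K ≤ q := by
    have h3 : Fintype.card K ^ 2 ≤ q ^ 2 := by
      rw [← hF, h1]
      exact Nat.pow_le_pow_right Fintype.card_pos hr
    exact (Nat.pow_le_pow_iff_left (by norm_num)).1 h3
  have hk : 1 < Fintype.card K := Fintype.one_lt_card
  refine hy (Fintype.card K - 1) (by omega) (by omega) ?_
  have := FiniteField.pow_card_sub_one_eq_one (⟨y, hR⟩ : K) (fun h => hy0 (congrArg Subtype.val h))
  simpa using congrArg Subtype.val this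

/-- An additive subgroup invariant under a generator of the field is everything. -/
theorem addSubgroup_top {y : F} (hy0 : y ≠ 0) (hy : ∀ j, 0 < j → j < q → y ^ j ≠ 1) (A : AddSubgroup F)
    (hA : ∀ x ∈ A, y * x ∈ A) {c : F} (hc : c ∈ A) (hc0 : c ≠ 0) (x : F) : x ∈ A := by
  let R : Subring F :=
    { carrier := {r | ∀ a ∈ A, r * a ∈ A}
      one_mem' := fun a ha => by rwa [one_mul]
      zero_mem' := fun a _ => by rw [zero_mul]; exact A.zero_mem
      add_mem' := fun {r s} hr hs a ha => by rw [add_mul]; exact A.add_mem (hr a ha) (hs a ha)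
      neg_mem' := fun {r} hr a ha => by rw [neg_mul]; exact A.neg_mem (hr a ha)
      mul_mem' := fun {r s} hr hs a ha => by rw [mul_assoc]; exact hr _ (hs a ha) }
  have h : x / c ∈ R := by rw [subring_top hF hy0 hy R hA]; trivial
  have := h c hc
  rwa [div_mul_cancel₀ _ hc0] at this

end H45.SUTwo
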