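import Cfsg.Agent.H45.SUTwoGen.Finish

/-!
Root elements extracted from a torus element and its conjugate by a monomial element.
-/

set_option autoImplicit false

namespace H45.SUTwo

open Matrix Cfsg H50 H37

universe u

variable {F : Type u} [Field F] [Fintype F] {q n : ℕ} (hF : Fintype.card F = q ^ 2)
  {e f v : Fin n → F} {K : Subgroup (SU n F q)}

omit [Fintype F] in
theorem comm_eq {D H x : SU n F q} (hc : D * H = H * D) :
    D * x * D⁻¹ * (H * (D * x * D⁻¹) * H⁻¹)⁻¹ * (H * x * H⁻¹) * x⁻¹ =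
      D * (x * H * x⁻¹) * D⁻¹ * (x * H * x⁻¹)⁻¹ := by
  have h1 : H = D⁻¹ * (H * D) := by rw [← hc]; group
  calc _ = D * x * (D⁻¹ * (H * D)) * x⁻¹ * D⁻¹ * x * H⁻¹ * x⁻¹ := by group
    _ = D * x * H * x⁻¹ * D⁻¹ * x * H⁻¹ * x⁻¹ := by rw [← h1]
    _ = _ := by group

include hF

/-- All multiples of one isotropic vector, with no central part. -/
theorem short_all (hf : IsHyp q e f) (hve : hermForm n F q v e = 0) (hvv : hermForm n F q v v = 0)
    {D H x : SU n F q} {l l' a b : F} (hDe : suMat D *ᵥ e = l • e) (hDv : suMat D *ᵥ v = a • v)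
    (hHe : suMat H *ᵥ e = l' • e) (hHv : suMat H *ᵥ v = b • v) (hc : D * H = H * D)
    (hx : IsEich e v 0 x) (hDK : D ∈ K) (hHK : x * H * x⁻¹ ∈ K)
    (hy0 : l ^ q * a ≠ 0) (hy : ∀ j, 0 < j → j < q → (l ^ q * a) ^ j ≠ 1) (hφ : l ^ q * a ≠ 1)
    (hχ : l' ^ q * b ≠ 1) (c : F) : ∃ g ∈ K, IsEich e (c • v) 0 g := by
  have hs : ∀ s : F, hermForm n F q (s • v) e = 0 := fun s => by rw [h_smul_left, hve, mul_zero]
  have hss : ∀ s t : F, hermForm n F q (s • v) (t • v) = 0 := fun s t => by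
    rw [h_smul_left, h_smul_right hF, hvv, mul_zero, mul_zero]
  have hmul : ∀ {s t : F} {g g' : SU n F q}, IsEich e (s • v) 0 g → IsEich e (t • v) 0 g' →
      IsEich e ((s + t) • v) 0 (g * g') := fun {s t g g'} h h' => by
    have := h.mul hF h' hf.1 (hs s) (hs t)
    rwa [hss, sub_zero, add_zero, ← add_smul] at this
  have hinv : ∀ {s : F} {g : SU n F q}, IsEich e (s • v) 0 g → IsEich e ((-s) • v) 0 g⁻¹ :=
    fun {s g} h => by
    have := h.inv hF hf.1 (hs s) (by rw [hss, zero_pow (q_ne_zero hF), add_zero, add_zero])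
    rwa [zero_pow (q_ne_zero hF), ← neg_smul] at this
  have hconj : ∀ {s k₀ k₁ : F} {k g : SU n F q}, suMat k *ᵥ e = k₀ • e → suMat k *ᵥ v = k₁ • v →
      IsEich e (s • v) 0 g → IsEich e ((k₀ ^ q * k₁ * s) • v) 0 (k * g * k⁻¹) :=
    fun {s k₀ k₁ k g} h0 h1 h => by
    have := conj_eig hF h h0 (w' := s • k₁ • v) (by rw [mulVec_smul, h1])
    rw [zero_mul, smul_smul, smul_smul] at this
    rwa [show k₀ ^ q * k₁ * s = k₀ ^ q * s * k₁ by ring]
  let A : AddSubgroup F :=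
    { carrier := {s | ∃ g ∈ K, IsEich e (s • v) 0 g}
      zero_mem' := ⟨1, one_mem K, fun y => by
        rw [suMat_one, one_mulVec, zero_smul, h_zero_right hF]; simp⟩
      add_mem' := fun ⟨g, hg, h⟩ ⟨g', hg', h'⟩ => ⟨g * g', mul_mem hg hg', hmul h h'⟩
      neg_mem' := fun ⟨g, hg, h⟩ => ⟨g⁻¹, inv_mem hg, hinv h⟩ }
  have hx1 : IsEich e ((1 : F) • v) 0 x := by rwa [one_smul]
  have hxD := hconj hDe hDv hx1
  have hX := hmul (hmul (hmul hxD (hinv (hconj hHe hHv hxD))) (hconj hHe hHv hx1)) (hinv hx1)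
  rw [comm_eq hc] at hX
  refine addSubgroup_top hF hy0 hy A ?_ (c := (l ^ q * a - 1) * (1 - l' ^ q * b))
    ⟨_, mul_mem (mul_mem (mul_mem hDK hHK) (inv_mem hDK)) (inv_mem hHK), ?_⟩
    (mul_ne_zero (sub_ne_zero.2 hφ) (sub_ne_zero.2 (Ne.symm hχ))) c
  · rintro s ⟨g, hg, h⟩
    exact ⟨_, mul_mem (mul_mem hDK hg) (inv_mem hDK), hconj hDe hDv h⟩
  · convert hX using 2; ring

/-- An element of the radical with the given part. -/
def InW (q : ℕ) (e f w : Fin n → F) (g : SU n F q) : Prop :=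
  hermForm n F q w e = 0 ∧ hermForm n F q w f = 0 ∧ ∃ γ : F, IsEich e w γ g

omit hF [Fintype F] in
theorem InW.congr {w w' : Fin n → F} {g : SU n F q} (h : InW q e f w g) (hw : w = w') :
    InW q e f w' g := hw ▸ h

theorem InW.mul (hf : IsHyp q e f) {w w' : Fin n → F} {g g' : SU n F q} (h : InW q e f w g)
    (h' : InW q e f w' g') : InW q e f (w + w') (g * g') := by
  obtain ⟨h1, h2, γ, h3⟩ := h
  obtain ⟨k1, k2, γ', k3⟩ := h'
  exact ⟨by rw [h_add_left, h1, k1, add_zero], by rw [h_add_left, h2, k2, add_zero], _,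
    h3.mul hF k3 hf.1 h1 k1⟩

theorem InW.inv (hf : IsHyp q e f) {w : Fin n → F} {g : SU n F q} (h : InW q e f w g) :
    InW q e f (-w) g⁻¹ := by
  obtain ⟨h1, h2, γ, h3⟩ := h
  exact ⟨by rw [h_neg_left, h1, neg_zero], by rw [h_neg_left, h2, neg_zero], _,
    h3.inv hF hf.1 h1 (h3.trace hF hf h1 h2)⟩

/-- A short root part and an anisotropic part. -/
theorem mixed_all {x₀ : Fin n → F} (hf : IsHyp q e f) (hve : hermForm n F q v e = 0)
    (hvf : hermForm n F q v f = 0) (hvv : hermForm n F q v v = 0)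
    (hze : hermForm n F q x₀ e = 0) (hzf : hermForm n F q x₀ f = 0)
    (hzz : hermForm n F q x₀ x₀ = 1)
    {D H x : SU n F q} {l a c b : F} (hDe : suMat D *ᵥ e = l • e) (hDv : suMat D *ᵥ v = a • v)
    (hDz : suMat D *ᵥ x₀ = c • x₀) (hHe : suMat H *ᵥ e = e) (hHv : suMat H *ᵥ v = b • v)
    (hHz : suMat H *ᵥ x₀ = c • x₀) (hc : D * H = H * D) {γ : F}
    (hx : IsEich e (v + x₀) γ x) (hDK : D ∈ K) (hHK : x * H * x⁻¹ ∈ K)
    (hy0 : l ^ q * a ≠ 0) (hy : ∀ j, 0 < j → j < q → (l ^ q * a) ^ j ≠ 1) (hφ : l ^ q * a ≠ 1)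
    (hz0 : l ^ q * c ≠ 0) (hzy : ∀ j, 0 < j → j < q → (l ^ q * c) ^ j ≠ 1) (hφz : l ^ q * c ≠ 1)
    (hc1 : c ≠ 1) (hab : l ^ q * a * b = 1) (hczz : l ^ q * c * c ≠ 1) :
    (∀ s : F, ∃ g ∈ K, IsEich e (s • v) 0 g) ∧ (∀ s : F, s • x₀ ∈ radParts K e f) ∧ x ∈ K := by
  set M := radParts K e f
  have hb1 : b ≠ 1 := fun h => hφ (by simpa [h] using hab)
  have hW : InW q e f (v + x₀) x :=
    ⟨by rw [h_add_left, hve, hze, add_zero], by rw [h_add_left, hvf, hzf, add_zero], γ, hx⟩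
  have hmk : ∀ s t : F, hermForm n F q (s • v + t • x₀) e = 0 ∧
      hermForm n F q (s • v + t • x₀) f = 0 := fun s t =>
    ⟨by rw [h_add_left, h_smul_left, h_smul_left, hve, hze, mul_zero, mul_zero, add_zero],
      by rw [h_add_left, h_smul_left, h_smul_left, hvf, hzf, mul_zero, mul_zero, add_zero]⟩
  have hxD : InW q e f ((l ^ q * a) • v + (l ^ q * c) • x₀) (D * x * D⁻¹) := by
    refine ⟨(hmk _ _).1, (hmk _ _).2, γ * (l * l ^ q), ?_⟩
    have := conj_eig hF hx hDe (w' := a • v + c • x₀) (by rw [mulVec_add, hDv, hDz])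
    rwa [smul_add, smul_smul, smul_smul] at this
  have hH1 : suMat H *ᵥ e = (1 : F) • e := by rw [hHe, one_smul]
  have hHc : ∀ {s t : F} {g : SU n F q}, InW q e f (s • v + t • x₀) g →
      InW q e f ((s * b) • v + (t * c) • x₀) (H * g * H⁻¹) := fun {s t g} h => by
    obtain ⟨-, -, γ', h3⟩ := h
    refine ⟨(hmk _ _).1, (hmk _ _).2, γ' * ((1 : F) * (1 : F) ^ q), ?_⟩
    have := conj_eig hF h3 hH1 (w' := (s * b) • v + (t * c) • x₀)
      (by rw [mulVec_add, mulVec_smul, mulVec_smul, hHv, hHz, smul_smul, smul_smul])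
    rw [one_pow, one_smul] at this
    rw [one_pow]
    exact this
  have hX := InW.mul hF hf (InW.mul hF hf (InW.mul hF hf hxD (InW.inv hF hf (hHc hxD)))
    (hHc (InW.congr hW (w' := (1 : F) • v + (1 : F) • x₀) (by rw [one_smul, one_smul]))))
    (InW.inv hF hf hW)
  rw [comm_eq hc] at hX
  set A := (l ^ q * a - 1) * (1 - b)
  set B := (l ^ q * c - 1) * (1 - c)
  have hAB : A • v + B • x₀ ∈ M := by
    obtain ⟨h1, -, γ', h3⟩ := InW.congr hX (w' := A • v + B • x₀) (by simp only [A, B]; module)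
    exact mem_radParts_of_isEich hF hf h3
      (mul_mem (mul_mem (mul_mem hDK hHK) (inv_mem hDK)) (inv_mem hHK)) h1
  have hopD : ∀ s t : F, s • v + t • x₀ ∈ M →
      (l ^ q * a * s) • v + (l ^ q * c * t) • x₀ ∈ M := fun s t h => by
    have := conj_mem_radParts hF hf hDK hDe h
    rw [mulVec_add, mulVec_smul, mulVec_smul, hDv, hDz, smul_add, smul_smul, smul_smul, smul_smul,
      smul_smul] at this
    convert this using 3 <;> ring
  -- the conjugate of `H` acts as `H` modulo `e`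
  have hxv : ∀ y, hermForm n F q y e = 0 → ∃ d : F, suMat (x * H * x⁻¹) *ᵥ y =
      suMat H *ᵥ y + d • e := fun y hy => by
    have hQ := hx.inQ hF hf.1 (by rw [h_add_left, hve, hze, add_zero])
    obtain ⟨d, hd⟩ := hQ.inv.2 y hy
    obtain ⟨d', hd'⟩ := hQ.2 (suMat H *ᵥ y) (by
      have := suMat_h H y e
      rw [hHe, hy] at this; exact this)
    refine ⟨d' + d, ?_⟩
    rw [suMat_mulVec_mul, suMat_mulVec_mul, hd, mulVec_add, mulVec_smul, hHe, mulVec_add,
      mulVec_smul, hQ.1, hd', add_smul]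
    abel
  have hHe' : suMat (x * H * x⁻¹) *ᵥ e = (1 : F) • e := by
    have hQ := hx.inQ hF hf.1 (by rw [h_add_left, hve, hze, add_zero])
    rw [suMat_mulVec_mul, suMat_mulVec_mul, hQ.inv.1, hHe, hQ.1, one_smul]
  have hopH : ∀ s t : F, s • v + t • x₀ ∈ M → (s * b) • v + (t * c) • x₀ ∈ M := fun s t h => by
    have := conj_mem_radParts hF hf hHK hHe' h
    obtain ⟨d, hd⟩ := hxv _ (hmk s t).1
    rw [one_pow, one_smul, hd, mulVec_add, mulVec_smul, mulVec_smul, hHv, hHz, smul_smul,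
      smul_smul] at this
    have := sub_mem this (smul_fst_mem_radParts hF hf.1 d)
    rwa [add_sub_cancel_right] at this
  have hB0 : B ≠ 0 := mul_ne_zero (sub_ne_zero.2 hφz) (sub_ne_zero.2 (Ne.symm hc1))
  have hA0 : A ≠ 0 := mul_ne_zero (sub_ne_zero.2 hφ) (sub_ne_zero.2 (Ne.symm hb1))
  have hzmem : ((l ^ q * c * c - 1) * B) • x₀ ∈ M := by
    have := sub_mem (hopH _ _ (hopD _ _ hAB)) hAB
    convert this using 1
    rw [show l ^ q * a * A * b = A by linear_combination A * hab]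
    module
  let AZ : AddSubgroup F :=
    { carrier := {s | s • x₀ ∈ M}
      zero_mem' := by show (0 : F) • x₀ ∈ M; rw [zero_smul]; exact M.zero_mem
      add_mem' := fun {s t} hs ht => by
        show (s + t) • x₀ ∈ M; rw [add_smul]; exact add_mem hs ht
      neg_mem' := fun {s} hs => by show (-s) • x₀ ∈ M; rw [neg_smul]; exact neg_mem hs }
  have hzall : ∀ s : F, s • x₀ ∈ M := fun s => addSubgroup_top hF hz0 hzy AZ (fun t ht => by
      have := hopD 0 t (by rw [zero_smul, zero_add]; exact ht)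
      rwa [mul_zero, zero_smul, zero_add] at this)
    (c := (l ^ q * c * c - 1) * B) hzmem (mul_ne_zero (sub_ne_zero.2 hczz) hB0) s
  let AV : AddSubgroup F :=
    { carrier := {s | s • v ∈ M}
      zero_mem' := by show (0 : F) • v ∈ M; rw [zero_smul]; exact M.zero_mem
      add_mem' := fun {s t} hs ht => by
        show (s + t) • v ∈ M; rw [add_smul]; exact add_mem hs ht
      neg_mem' := fun {s} hs => by show (-s) • v ∈ M; rw [neg_smul]; exact neg_mem hs }
  have hvall : ∀ s : F, s • v ∈ M := fun s => addSubgroup_top hF hy0 hy AV (fun t ht => by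
      have := hopD t 0 (by rw [zero_smul, add_zero]; exact ht)
      rwa [mul_zero, zero_smul, add_zero] at this)
    (c := A) (by
      show A • v ∈ M
      have := sub_mem hAB (hzall B)
      rwa [add_sub_cancel_right] at this) hA0 s
  have hT : ∀ d : F, d + d ^ q = 0 → ∃ g ∈ K, IsEich e 0 d g := by
    intro d hd
    obtain ⟨s, hs⟩ := exists_sub_pow hF hd
    obtain ⟨g, hg, hgE⟩ := center_mem hF hf (w := s • x₀) (w' := x₀)
      (by rw [h_smul_left, hze, mul_zero]) (by rw [h_smul_left, hzf, mul_zero]) hze hzf (hzall s)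
      (by simpa using hzall 1)
    rw [h_smul_left, h_smul_right hF, hzz, mul_one, mul_one, hs] at hgE
    exact ⟨g, hg, hgE⟩
  refine ⟨fun s => ?_, hzall, ?_⟩
  · obtain ⟨g, hg⟩ := exists_isEich hF hf.1 (w := s • v) (γ := 0)
      (by rw [h_smul_left, hve, mul_zero])
      (by rw [h_smul_left, h_smul_right hF, hvv, zero_pow (q_ne_zero hF)]; ring)
    exact ⟨g, eich_mem hF hf hT (by rw [h_smul_left, hve, mul_zero])
      (by rw [h_smul_left, hvf, mul_zero]) (hvall s) hg, hg⟩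
  · exact eich_mem hF hf hT hW.1 hW.2.1 (by
      have := add_mem (hvall 1) (hzall 1)
      rwa [one_smul, one_smul] at this) hx

end H45.SUTwo
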