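import Cfsg.Agent.H45.SUTwoGen.Frame

/-!
The monomial element, one short root group and the anisotropic radical parts generate `SU_n`.
-/

set_option autoImplicit false

namespace H45.SUTwo

open Matrix Cfsg H50 H37

universe u

variable {F : Type u} [Field F] [Fintype F] {q n m r : ℕ} (hF : Fintype.card F = q ^ 2)
  {e f : Fin m → Fin n → F} {z : Fin r → Fin n → F} (B : Basis2 q m r e f z)
  {w : SU n F q} {hm : 0 < m}
  (hwB : ∀ k, ∃ c : F, c ≠ 0 ∧ suMat w *ᵥ fam e f z k = c • fam e f z (cyc hm k))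

include hwB

omit [Fintype F] in
theorem w_e {i : Fin m} (h : i.val + 1 < m) :
    ∃ s : F, s ≠ 0 ∧ suMat w *ᵥ e i = s • e ⟨i.val + 1, h⟩ := by
  obtain ⟨s, hs, h1⟩ := hwB (Sum.inl (Sum.inl i))
  exact ⟨s, hs, by simpa [fam, cyc, h] using h1⟩

omit [Fintype F] in
theorem w_e_last {i : Fin m} (h : ¬ i.val + 1 < m) :
    ∃ s : F, s ≠ 0 ∧ suMat w *ᵥ e i = s • f ⟨0, hm⟩ := by
  obtain ⟨s, hs, h1⟩ := hwB (Sum.inl (Sum.inl i))
  exact ⟨s, hs, by simpa [fam, cyc, h] using h1⟩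

omit [Fintype F] in
theorem w_f {i : Fin m} (h : i.val + 1 < m) :
    ∃ s : F, s ≠ 0 ∧ suMat w *ᵥ f i = s • f ⟨i.val + 1, h⟩ := by
  obtain ⟨s, hs, h1⟩ := hwB (Sum.inl (Sum.inr i))
  exact ⟨s, hs, by simpa [fam, cyc, h] using h1⟩

omit [Fintype F] in
theorem w_f_last {i : Fin m} (h : ¬ i.val + 1 < m) :
    ∃ s : F, s ≠ 0 ∧ suMat w *ᵥ f i = s • e ⟨0, hm⟩ := by
  obtain ⟨s, hs, h1⟩ := hwB (Sum.inl (Sum.inr i))
  exact ⟨s, hs, by simpa [fam, cyc, h] using h1⟩

omit [Fintype F] in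
theorem w_z (k : Fin r) : ∃ s : F, s ≠ 0 ∧ suMat w *ᵥ z k = s • z k := by
  obtain ⟨s, hs, h1⟩ := hwB (Sum.inr k)
  exact ⟨s, hs, by simpa [fam, cyc] using h1⟩

variable {K : Subgroup (SU n F q)}

include hF

omit hwB in
theorem conj_family {a b a' b' : Fin n → F} {k : SU n F q} (hk : k ∈ K) {s t : F} (hs : s ≠ 0)
    (ht : t ≠ 0) (ha : suMat k *ᵥ a = s • a') (hb : suMat k *ᵥ b = t • b')
    (h : ∀ c : F, ∃ g ∈ K, IsEich a (c • b) 0 g) (c : F) :
    ∃ g ∈ K, IsEich a' (c • b') 0 g := by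
  obtain ⟨g, hg, hgE⟩ := h (c / (s ^ q * t))
  refine ⟨k * g * k⁻¹, mul_mem (mul_mem hk hg) (inv_mem hk), ?_⟩
  have := conj_eig hF hgE ha
    (w' := (c / (s ^ q * t)) • t • b') (by rw [mulVec_smul, hb])
  have hst : s ^ q * t ≠ 0 := mul_ne_zero (pow_ne_zero _ hs) ht
  rwa [zero_mul, smul_smul, smul_smul, show s ^ q * (c / (s ^ q * t)) * t = c by field_simp] at this

omit hwB in
theorem conj_trans {a a' : Fin n → F} {k : SU n F q} (hk : k ∈ K) {s : F} (hs : s ≠ 0)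
    (ha : suMat k *ᵥ a = s • a')
    (h : ∀ d : F, d + d ^ q = 0 → ∃ g ∈ K, IsEich a 0 d g) (d : F) (hd : d + d ^ q = 0) :
    ∃ g ∈ K, IsEich a' 0 d g := by
  have hN : (s * s ^ q) ≠ 0 := mul_ne_zero hs (pow_ne_zero _ hs)
  obtain ⟨g, hg, hgE⟩ := h (d / (s * s ^ q)) (by
    rw [div_pow, mul_pow, pow_q_pow_q hF, mul_comm (s ^ q) s, ← add_div, hd, zero_div])
  refine ⟨k * g * k⁻¹, mul_mem (mul_mem hk hg) (inv_mem hk), ?_⟩
  have := conj_eig hF hgE ha (w' := 0) (mulVec_zero _)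
  rwa [smul_zero, div_mul_cancel₀ _ hN] at this

include B

theorem eq_top_of (h2m : 2 ≤ m) (hwK : w ∈ K)
    (hS : ∀ c : F, ∃ g ∈ K, IsEich (e ⟨0, hm⟩) (c • f ⟨1, h2m⟩) 0 g)
    (hz : ∀ (k : Fin r) (c : F), c • z k ∈ radParts K (e ⟨0, hm⟩) (f ⟨0, hm⟩)) : K = ⊤ := by
  classical
  set i₀ : Fin m := ⟨0, hm⟩
  set i₁ : Fin m := ⟨1, h2m⟩
  have hf := B.hyp (hF := hF) i₀
  have hU : ∀ (j : ℕ) (h : j + 1 < m), ∀ c : F,
      ∃ g ∈ K, IsEich (e ⟨j, by omega⟩) (c • f ⟨j + 1, h⟩) 0 g := by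
    intro j
    induction j with
    | zero => exact fun _ => hS
    | succ j ih =>
      intro h
      obtain ⟨s, hs, hse⟩ := w_e hwB (i := ⟨j, by omega⟩) (show j + 1 < m by omega)
      obtain ⟨t, ht, htf⟩ := w_f hwB (i := ⟨j + 1, by omega⟩) (show j + 1 + 1 < m from h)
      exact conj_family hF hwK hs ht hse htf (ih (by omega))
  set M := radParts K (e i₀) (f i₀)
  have hlast : ∀ a : F, a • e ⟨m - 1, by omega⟩ ∈ M := by
    intro a
    obtain ⟨s, hs, hse⟩ := w_e hwB (i := ⟨m - 2, by omega⟩) (show m - 2 + 1 < m by omega)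
    obtain ⟨t, ht, htf⟩ := w_f_last hwB (i := ⟨m - 1, by omega⟩) (show ¬ (m - 1 + 1 < m) by omega)
    have h1 := hU (m - 2) (by omega)
    simp only [show m - 2 + 1 = m - 1 by omega] at h1 hse
    obtain ⟨g, hg, hgE⟩ := conj_family hF hwK hs ht hse htf h1 ((-a) ^ q)
    have := rescale hF (swap hF hgE)
    rw [pow_q_pow_q hF, neg_smul_neg, zero_mul] at this
    exact mem_radParts_of_isEich hF hf this hg (by rw [h_smul_left, B.ee, mul_zero])
  have hfj : ∀ (j : ℕ) (h : j < m), 1 ≤ j → ∀ c : F, c • f ⟨j, h⟩ ∈ M := by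
    intro j
    induction j with
    | zero => intro _ h; omega
    | succ j ih =>
      intro h _ c
      rcases Nat.eq_zero_or_pos j with rfl | hj
      · obtain ⟨g, hg, hgE⟩ := hS c
        exact mem_radParts_of_isEich hF hf hgE hg (by
          rw [h_smul_left, B.fe hF, if_neg (by simp [i₀, Fin.ext_iff]), mul_zero])
      obtain ⟨g, hg, hgE⟩ := hU j h c
      have hne : (⟨j, by omega⟩ : Fin m) ≠ i₀ := by simp [i₀, Fin.ext_iff]; omega
      have hne' : (⟨j + 1, h⟩ : Fin m) ≠ i₀ := by simp [i₀, Fin.ext_iff]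
      have hfix : suMat g *ᵥ e i₀ = e i₀ := by
        rw [hgE, B.ee, h_smul_right hF, B.ef, if_neg hne'.symm]; simp
      have := nil_mem_radParts hF hf hg hfix (ih (by omega) hj 1)
      rw [one_smul] at this
      have e1 : suMat g *ᵥ f ⟨j, by omega⟩ - f ⟨j, by omega⟩ = c • f ⟨j + 1, h⟩ := by
        rw [hgE, B.fe hF, if_pos rfl, h_smul_right hF, B.ff]; simp
      rwa [e1] at this
  have hej : ∀ (k j : ℕ) (h : j + k + 1 = m), 1 ≤ j → ∀ c : F, c • e ⟨j, by omega⟩ ∈ M := by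
    intro k
    induction k with
    | zero =>
      intro j h _ c
      simp only [show j = m - 1 by omega]
      exact hlast c
    | succ k ih =>
      intro j h hj c
      obtain ⟨g, hg, hgE⟩ := hU j (by omega) ((-c) ^ q)
      have hfix : suMat g *ᵥ e i₀ = e i₀ := by
        rw [hgE, B.ee, h_smul_right hF, B.ef, if_neg (by simp [i₀, Fin.ext_iff])]; simp
      have := nil_mem_radParts hF hf hg hfix (ih (j + 1) (by omega) (by omega) 1)
      rw [one_smul] at this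
      have e1 : suMat g *ᵥ e ⟨j + 1, by omega⟩ - e ⟨j + 1, by omega⟩ = c • e ⟨j, by omega⟩ := by
        rw [hgE, B.ee, h_smul_right hF, pow_q_pow_q hF, B.ef, if_pos rfl]; simp
      rwa [e1] at this
  have hMfull : ∀ x, hermForm n F q x (e i₀) = 0 → x ∈ M := by
    intro x hx
    obtain ⟨c, rfl⟩ := B.exists_sum hF x
    have h0 : c (Sum.inl (Sum.inr i₀)) = 0 := by
      rw [h_sum_left, Fintype.sum_sum_type, Fintype.sum_sum_type] at hx
      simpa [fam, h_smul_left, B.ee, B.fe hF, B.ze] using hx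
    refine sum_mem fun k _ => ?_
    rcases k with (i | i) | i
    · by_cases hi : i = i₀
      · subst hi; exact smul_fst_mem_radParts hF hf.1 _
      · exact hej (m - 1 - i.val) i.val (by omega)
          (Nat.pos_of_ne_zero fun h => hi (Fin.ext h)) _
    · by_cases hi : i = i₀
      · subst hi; rw [h0, zero_smul]; exact M.zero_mem
      · exact hfj i.val i.2 (Nat.pos_of_ne_zero fun h => hi (Fin.ext h)) _
    · exact hz i _
  have hne : i₁ ≠ i₀ := by simp [i₀, i₁, Fin.ext_iff]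
  have hTe : ∀ d : F, d + d ^ q = 0 → ∃ g ∈ K, IsEich (e i₀) 0 d g := by
    intro d hd
    obtain ⟨a, ha⟩ := exists_sub_pow hF hd
    have h1 : hermForm n F q (a • f i₁) (e i₀) = 0 := by
      rw [h_smul_left, B.fe hF, if_neg hne, mul_zero]
    have h2 : hermForm n F q (a • f i₁) (f i₀) = 0 := by rw [h_smul_left, B.ff, mul_zero]
    have h3 : hermForm n F q (e i₁) (f i₀) = 0 := by rw [B.ef, if_neg hne]
    obtain ⟨g, hg, hgE⟩ := center_mem hF hf h1 h2 (B.ee i₁ i₀) h3 (hMfull _ h1)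
      (hMfull _ (B.ee i₁ i₀))
    rw [h_smul_left, h_smul_right hF, B.fe hF, B.ef, if_pos rfl, mul_one, mul_one, ha] at hgE
    exact ⟨g, hg, hgE⟩
  have hTj : ∀ (j : ℕ) (h : j < m), ∀ d : F, d + d ^ q = 0 →
      ∃ g ∈ K, IsEich (e ⟨j, h⟩) 0 d g := by
    intro j
    induction j with
    | zero => exact fun _ => hTe
    | succ j ih =>
      intro h
      obtain ⟨s, hs, hse⟩ := w_e hwB (i := ⟨j, by omega⟩) (show j + 1 < m from h)
      exact conj_trans hF hwK hs hse (ih (by omega))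
  have hTf : ∀ d : F, d + d ^ q = 0 → ∃ g ∈ K, IsEich (f i₀) 0 d g := by
    obtain ⟨s, hs, hse⟩ := w_e_last hwB (i := ⟨m - 1, by omega⟩) (show ¬ (m - 1 + 1 < m) by omega)
    exact conj_trans hF hwK hs hse (hTj (m - 1) (by omega))
  have hn := B.card
  refine eq_top_of_radical hF (by omega) (fun h => by omega) hf hTe hTf ?_
  exact fun x γ h1 h2 h3 => isEich_mem_of_radParts hF hf hTe hMfull h1 h2 h3

end H45.SUTwo
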