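import Cfsg.Agent.H45.SUTwoGen.Basic

/-!
A hyperbolic basis of the Hermitian space, its diagonal elements and the cyclic monomial element.
-/

set_option autoImplicit false

namespace H45.SUTwo

open Matrix Cfsg H50 H37

universe u

variable {F : Type u} [Field F] {q n m r : ℕ}

/-- A hyperbolic basis: `e i`, `f i` hyperbolic pairs and orthonormal vectors `z k`. -/
structure Basis2 (q m r : ℕ) (e f : Fin m → Fin n → F) (z : Fin r → Fin n → F) : Prop where
  ee : ∀ i j, hermForm n F q (e i) (e j) = 0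
  ff : ∀ i j, hermForm n F q (f i) (f j) = 0
  ef : ∀ i j, hermForm n F q (e i) (f j) = if i = j then 1 else 0
  zz : ∀ i j, hermForm n F q (z i) (z j) = if i = j then 1 else 0
  ze : ∀ k i, hermForm n F q (z k) (e i) = 0
  zf : ∀ k i, hermForm n F q (z k) (f i) = 0
  card : n = 2 * m + r

variable [Fintype F] (hF : Fintype.card F = q ^ 2)
include hF

theorem exists_basis2 (hn : n = 2 * m + r) :
    ∃ (e f : Fin m → Fin n → F) (z : Fin r → Fin n → F), Basis2 q m r e f z := by
  classical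
  obtain ⟨c, hc⟩ := H50.exists_norm_eq hF (c := (-1 : F)) (by rw [neg_pow_q hF, one_pow])
  let p : Fin m → Fin n := fun i => ⟨2 * i, by omega⟩
  let p' : Fin m → Fin n := fun i => ⟨2 * i + 1, by omega⟩
  have hp : ∀ i j, p i ≠ p' j := fun i j h => by simp [p, p', Fin.ext_iff] at h; omega
  have hpp : ∀ i j, p i = p j ↔ i = j := fun i j => by simp [p, Fin.ext_iff]
  have hpp' : ∀ i j, p' i = p' j ↔ i = j := fun i j => by simp [p', Fin.ext_iff]
  let e : Fin m → Fin n → F := fun i => Pi.single (p i) 1 + c • Pi.single (p' i) 1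
  have hee : ∀ i j, hermForm n F q (e i) (e j) = 0 := by
    intro i j
    simp only [e, h_add_left, h_add_right hF, h_smul_left, h_smul_right hF, h_single_single hF,
      hp i j, (hp j i).symm, hpp, hpp', if_false]
    split_ifs
    · rw [pow_succ] at hc
      linear_combination hc
    · simp
  have hli : LinearIndependent F e := by
    refine Fintype.linearIndependent_iff.2 fun a ha i => ?_
    have := congrFun ha (p i)
    simpa [e, Finset.sum_apply, Pi.single_apply, hp, hpp, eq_comm] using this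
  obtain ⟨f, hef, hff⟩ := exists_hyp_completion hF hli hee
  have hG := hypFrame_gramND hF hee hef hff
  obtain ⟨d, hd, hdb⟩ := exists_completion hF hG
  have hr : r = n - Fintype.card (Fin m ⊕ Fin m) := by simp; omega
  refine ⟨e, f, fun k => d (Fin.cast hr k), hee, hff, hef, fun i j => ?_,
    fun k i => hdb _ (Sum.inl i), fun k i => hdb _ (Sum.inr i), hn⟩
  rw [hd]
  simp [Fin.ext_iff]

variable {e f : Fin m → Fin n → F} {z : Fin r → Fin n → F}

omit hF in
/-- The members, as one family. -/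
def fam (e f : Fin m → Fin n → F) (z : Fin r → Fin n → F) :
    (Fin m ⊕ Fin m) ⊕ Fin r → Fin n → F := Sum.elim (Sum.elim e f) z

namespace Basis2

variable (B : Basis2 q m r e f z)
include B

theorem fe (i j : Fin m) : hermForm n F q (f i) (e j) = if i = j then 1 else 0 := by
  rw [h_symm hF, B.ef]
  by_cases h : i = j <;> simp [h, eq_comm (a := j), zero_pow (q_ne_zero hF)]

theorem ez (i : Fin m) (k : Fin r) : hermForm n F q (e i) (z k) = 0 :=
  (h_eq_zero_comm hF).1 (B.ze k i)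

theorem fz (i : Fin m) (k : Fin r) : hermForm n F q (f i) (z k) = 0 :=
  (h_eq_zero_comm hF).1 (B.zf k i)

theorem hyp (i : Fin m) : IsHyp q (e i) (f i) := ⟨B.ee i i, B.ff i i, by rw [B.ef, if_pos rfl]⟩

theorem li : LinearIndependent F (fam e f z) :=
  GramND.linearIndependent hF (sumElim_gramND hF (hypFrame_gramND hF B.ee B.ef B.ff) B.zz
    (by rintro k (i | i)
        exacts [B.ze k i, B.zf k i]))

theorem card_fam : Fintype.card ((Fin m ⊕ Fin m) ⊕ Fin r) = n := by
  have := B.card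
  simp; omega

/-- Every vector is a combination of the family. -/
theorem exists_sum (x : Fin n → F) : ∃ c : (Fin m ⊕ Fin m) ⊕ Fin r → F, ∑ k, c k • fam e f z k = x := by
  refine (Submodule.mem_span_range_iff_exists_fun F).1 ?_
  rw [Submodule.eq_top_of_finrank_eq (S := Submodule.span F (Set.range (fam e f z))) ?_]
  · trivial
  rw [finrank_span_eq_card (B.li hF), B.card_fam hF, Module.finrank_fin_fun]

/-- Elements agreeing on the family are equal. -/
theorem ext {g g' : SU n F q} (h : ∀ k, suMat g *ᵥ fam e f z k = suMat g' *ᵥ fam e f z k) :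
    g = g' := suMat_ext fun x => by
  obtain ⟨c, rfl⟩ := B.exists_sum hF x
  simp only [Matrix.mulVec_sum, Matrix.mulVec_smul, h]

theorem det_diag {M : Matrix (Fin n) (Fin n) F} (d : (Fin m ⊕ Fin m) ⊕ Fin r → F)
    (hM : ∀ k, M *ᵥ fam e f z k = d k • fam e f z k) : M.det = ∏ k, d k := by
  classical
  have hspan : ⊤ ≤ Submodule.span F (Set.range (fam e f z)) := fun x _ => by
    obtain ⟨c, rfl⟩ := B.exists_sum hF x
    exact Submodule.sum_mem _ fun k _ => Submodule.smul_mem _ _ (Submodule.subset_span ⟨k, rfl⟩)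
  let b := Module.Basis.mk (B.li hF) hspan
  rw [← LinearMap.det_toLin', ← LinearMap.det_toMatrix b, ← Matrix.det_diagonal]
  congr 1
  ext i j
  rw [LinearMap.toMatrix_apply, Matrix.toLin'_apply, Module.Basis.coe_mk, hM, map_smul,
    show fam e f z j = b j from (Module.Basis.mk_apply (B.li hF) hspan j).symm]
  simp [Finsupp.single_apply, Matrix.diagonal_apply, eq_comm]
  split_ifs with h <;> simp [h]

theorem exists_iso_diag (t : Fin m → F) (ht : ∀ i, t i ≠ 0) (μ : Fin r → F)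
    (hμ : ∀ k, μ k * μ k ^ q = 1) :
    ∃ M : Matrix (Fin n) (Fin n) F, IsIso q M ∧
      M.det = (∏ i, t i) * (∏ i, (t i ^ q)⁻¹) * ∏ k, μ k ∧
      (∀ i, M *ᵥ e i = t i • e i) ∧ (∀ i, M *ᵥ f i = (t i ^ q)⁻¹ • f i) ∧
      ∀ k, M *ᵥ z k = μ k • z k := by
  classical
  let d : (Fin m ⊕ Fin m) ⊕ Fin r → F := Sum.elim (Sum.elim t fun i => (t i ^ q)⁻¹) μ
  have hsg : SameGram q (fam e f z) (fun k => d k • fam e f z k) := by
    rintro ((i | i) | i) ((j | j) | j) <;>
      simp only [fam, d, Sum.elim_inl, Sum.elim_inr, h_smul_left, h_smul_right hF, B.ee, B.ff,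
        B.ef, B.fe hF, B.zz, B.ze, B.zf, B.ez hF, B.fz hF, mul_zero]
    all_goals (try split_ifs) <;> (try subst_vars) <;> (try simp only [mul_zero])
    all_goals simp_all [pow_q_pow_q hF, inv_pow, mul_comm]
  obtain ⟨M, hM, hMb⟩ := exists_iso_of_basis hF (B.card_fam hF) (B.li hF) hsg
  refine ⟨M, hM, ?_, fun i => hMb (Sum.inl (Sum.inl i)), fun i => hMb (Sum.inl (Sum.inr i)),
    fun k => hMb (Sum.inr k)⟩
  rw [B.det_diag hF d hMb, Fintype.prod_sum_type, Fintype.prod_sum_type]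
  simp [d]

/-- The torus element on the first two planes and the anisotropic part. -/
theorem exists_torus2 {i₀ i₁ : Fin m} (hne : i₀ ≠ i₁) {a b c : F} (ha : a ≠ 0) (hb : b ≠ 0)
    (hc : c * c ^ q = 1) (hdet : a * b * c ^ r = a ^ q * b ^ q) :
    ∃ D : SU n F q, suMat D *ᵥ e i₀ = a • e i₀ ∧ suMat D *ᵥ f i₀ = (a ^ q)⁻¹ • f i₀ ∧
      suMat D *ᵥ e i₁ = b • e i₁ ∧ suMat D *ᵥ f i₁ = (b ^ q)⁻¹ • f i₁ ∧
      (∀ i, i ≠ i₀ → i ≠ i₁ → suMat D *ᵥ e i = e i ∧ suMat D *ᵥ f i = f i) ∧
      ∀ k, suMat D *ᵥ z k = c • z k := by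
  classical
  let t : Fin m → F := fun i => if i = i₀ then a else if i = i₁ then b else 1
  have ht : ∀ i, t i ≠ 0 := fun i => by simp only [t]; split_ifs <;> simp [ha, hb]
  obtain ⟨M, hM, hd, hMe, hMf, hMz⟩ := B.exists_iso_diag hF t ht (fun _ => c) fun _ => hc
  have hp : ∀ g : F → F, g 1 = 1 → ∏ i, g (t i) = g a * g b := fun g hg => by
    rw [← Finset.prod_subset (Finset.subset_univ {i₀, i₁}) (fun i _ hi => by
      simp at hi; simp [t, hi.1, hi.2, hg]), Finset.prod_pair hne]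
    simp [t, hne.symm]
  have h1 := hp id rfl
  simp only [id] at h1
  rw [h1, hp (fun x => (x ^ q)⁻¹) (by simp), Finset.prod_const, Finset.card_univ,
    Fintype.card_fin] at hd
  have hd1 : M.det = 1 := by
    rw [hd]
    field_simp
    linear_combination hdet
  refine ⟨mkSU M hM hd1, ?_, ?_, ?_, ?_, fun i h0 h1 => ⟨?_, ?_⟩, fun k => hMz k⟩
  all_goals show M *ᵥ _ = _
  · rw [hMe]; simp [t]
  · rw [hMf]; simp [t]
  · rw [hMe]; simp [t, hne.symm]
  · rw [hMf]; simp [t, hne.symm]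
  · rw [hMe]; simp [t, h0, h1]
  · rw [hMf]; simp [t, h0, h1]

end Basis2

omit hF [Fintype F] in
/-- The cyclic permutation of the indices. -/
def cyc (hm : 0 < m) : (Fin m ⊕ Fin m) ⊕ Fin r → (Fin m ⊕ Fin m) ⊕ Fin r
  | Sum.inl (Sum.inl i) =>
      if h : i.val + 1 < m then Sum.inl (Sum.inl ⟨i.val + 1, h⟩) else Sum.inl (Sum.inr ⟨0, hm⟩)
  | Sum.inl (Sum.inr i) =>
      if h : i.val + 1 < m then Sum.inl (Sum.inr ⟨i.val + 1, h⟩) else Sum.inl (Sum.inl ⟨0, hm⟩)
  | Sum.inr k => Sum.inr k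

/-- The monomial element moving every point of the basis to the next. -/
theorem exists_cyc_su (B : Basis2 q m r e f z) (hm : 0 < m) :
    ∃ w : SU n F q, ∀ k, ∃ c : F, c ≠ 0 ∧ suMat w *ᵥ fam e f z k = c • fam e f z (cyc hm k) := by
  classical
  have hsg : SameGram q (fam e f z) (fun k => fam e f z (cyc hm k)) := by
    rintro ((i | i) | i) ((j | j) | j) <;>
      simp only [cyc] <;>
      (try by_cases hi : i.val + 1 < m) <;> (try by_cases hj : j.val + 1 < m)
    all_goals
      simp [fam, *, B.ee, B.ff, B.ef, B.fe hF, B.zz, B.ze, B.zf, B.ez hF, B.fz hF, Fin.ext_iff]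
      try (intros; omega)
  obtain ⟨M, hM, hMb⟩ := exists_iso_of_basis hF (B.card_fam hF) (B.li hF) hsg
  set δ := M.det with hδ
  have hδ0 : δ ≠ 0 := hM.det_ne_zero hF
  obtain ⟨t, ht0, ht⟩ : ∃ t : F, t ≠ 0 ∧ δ * t = t ^ q := by
    obtain ⟨g, hg⟩ := IsCyclic.exists_generator (α := Fˣ)
    obtain ⟨k, hk⟩ := mem_powers_iff_mem_zpowers.2 (hg (Units.mk0 δ hδ0))
    simp only at hk
    have h1 : g ^ (k * (q + 1)) = 1 := by
      rw [pow_mul, hk]; ext; simpa using hM.det_norm hF
    have h2 := orderOf_dvd_of_pow_eq_one h1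
    have h3 : orderOf g = (q + 1) * (q - 1) := by
      rw [orderOf_eq_card_of_forall_mem_zpowers hg, Nat.card_units, Nat.card_eq_fintype_card, hF,
        ← Nat.sq_sub_sq, one_pow]
    rw [h3, mul_comm k, Nat.mul_dvd_mul_iff_left (by omega)] at h2
    obtain ⟨j, rfl⟩ := h2
    refine ⟨((g ^ j : Fˣ) : F), Units.ne_zero _, ?_⟩
    have hk' : (g : F) ^ ((q - 1) * j) = δ := by simpa using congrArg Units.val hk
    have h2 := two_le hF
    push_cast
    rw [← hk', ← pow_add, ← pow_mul]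
    congr 1
    obtain ⟨p, rfl⟩ := Nat.exists_eq_add_of_le h2
    rw [show 2 + p - 1 = 1 + p by omega]
    ring
  let i₀ : Fin m := ⟨0, hm⟩
  obtain ⟨N, hN, hNd, hNe, hNf, hNz⟩ := B.exists_iso_diag hF (fun i => if i = i₀ then t else 1)
    (fun i => by split_ifs <;> simp [ht0]) (fun _ => 1) (fun _ => by simp)
  rw [Fintype.prod_eq_single i₀ (fun i hi => by simp [hi]),
    Fintype.prod_eq_single i₀ (fun i hi => by simp [hi]), Finset.prod_const_one, mul_one,
    if_pos rfl] at hNd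
  have hd : (M * N).det = 1 := by
    rw [det_mul, hNd, ← hδ, ← mul_assoc, ht, mul_inv_cancel₀ (pow_ne_zero _ ht0)]
  refine ⟨mkSU (M * N) (hM.mul hN) hd, fun k => ?_⟩
  show ∃ c : F, c ≠ 0 ∧ (M * N) *ᵥ fam e f z k = _
  have key : ∀ c : F, N *ᵥ fam e f z k = c • fam e f z k →
      (M * N) *ᵥ fam e f z k = c • fam e f z (cyc hm k) := fun c h => by
    rw [← Matrix.mulVec_mulVec, h, Matrix.mulVec_smul, hMb]
  rcases k with (i | i) | i
  · exact ⟨_, by split_ifs <;> simp [ht0], key _ (hNe i)⟩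
  · exact ⟨_, inv_ne_zero (pow_ne_zero _ (by split_ifs <;> simp [ht0])), key _ (hNf i)⟩
  · exact ⟨1, one_ne_zero, key 1 (hNz i)⟩

end H45.SUTwo
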