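import Cfsg.Agent.H45.SUTwoGen.Core
import Cfsg.Agent.H37.SU3Gen
import Cfsg.Agent.H37.SUThreeTwo

/-!
`SU_n(q)` and `PSU_n(q)` are generated by two elements.
-/

set_option autoImplicit false

namespace H45.SUTwo

open Matrix Cfsg H50 H37

universe u

variable {F : Type u} [Field F] [Fintype F] {q n m r : ℕ} (hF : Fintype.card F = q ^ 2)
  {e f : Fin m → Fin n → F} {z : Fin r → Fin n → F}
include hF

/-- Powers of a generator with their separation properties. -/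
theorem exists_gen : ∃ g : F, g ≠ 0 ∧ g ^ (q ^ 2) = g ∧ g ^ (q - 1) * (g ^ (q - 1)) ^ q = 1 ∧
    (∀ k, 0 < k → k < q ^ 2 - 1 → g ^ k ≠ 1) := by
  obtain ⟨g, hg⟩ := IsCyclic.exists_generator (α := Fˣ)
  have hord : orderOf g = q ^ 2 - 1 := by
    rw [orderOf_eq_card_of_forall_mem_zpowers hg, Nat.card_units, Nat.card_eq_fintype_card, hF]
  refine ⟨g, g.ne_zero, by rw [← hF]; exact FiniteField.pow_card _, ?_, fun k hk hk' h => ?_⟩
  · have : q + 1 ≠ 0 := by omega
    rw [← pow_succ', ← pow_mul, show (q - 1) * (q + 1) = Fintype.card F - 1 by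
      rw [hF, mul_comm, ← Nat.sq_sub_sq, one_pow]]
    exact FiniteField.pow_card_sub_one_eq_one _ g.ne_zero
  · have h' : g ^ k = 1 := by ext; simpa using h
    have := Nat.le_of_dvd hk (orderOf_dvd_of_pow_eq_one h')
    omega

omit [Fintype F] hF in
theorem cyc_surjective (hm : 0 < m) : Function.Surjective (cyc (r := r) hm) := by
  rintro ((i | i) | k)
  · by_cases hi : i.val = 0
    · exact ⟨Sum.inl (Sum.inr ⟨m - 1, by omega⟩), by
        simp [cyc, show ¬ (m - 1 + 1 < m) by omega, Fin.ext_iff, hi]⟩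
    · exact ⟨Sum.inl (Sum.inl ⟨i.val - 1, by omega⟩), by
        simp [cyc, show i.val - 1 + 1 = i.val by omega]⟩
  · by_cases hi : i.val = 0
    · exact ⟨Sum.inl (Sum.inl ⟨m - 1, by omega⟩), by
        simp [cyc, show ¬ (m - 1 + 1 < m) by omega, Fin.ext_iff, hi]⟩
    · exact ⟨Sum.inl (Sum.inr ⟨i.val - 1, by omega⟩), by
        simp [cyc, show i.val - 1 + 1 = i.val by omega]⟩
  · exact ⟨Sum.inr k, rfl⟩

omit [Fintype F] hF in
/-- An eigenvector of `D` gives one of its conjugate by `w`. -/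
theorem conj_eig_vec {w D : SU n F q} {v u : Fin n → F} {s c : F} (hs : s ≠ 0)
    (hw : suMat w *ᵥ v = s • u) (hD : suMat D *ᵥ v = c • v) :
    suMat (w * D * w⁻¹) *ᵥ u = c • u := by
  have h : suMat (w * D * w⁻¹) *ᵥ (s • u) = c • (s • u) := by
    rw [← hw, suMat_mulVec_mul, suMat_mulVec_mul, suMat_inv_mulVec, hD, mulVec_smul]
  rw [mulVec_smul, smul_comm c s] at h
  exact smul_right_injective _ hs h

/-- The torus element commutes with its conjugate by the monomial element. -/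
theorem torus_comm (B : Basis2 q m r e f z) (hm : 0 < m) {w D : SU n F q}
    (hwB : ∀ k, ∃ c : F, c ≠ 0 ∧ suMat w *ᵥ fam e f z k = c • fam e f z (cyc hm k))
    (hD : ∀ k, ∃ c : F, suMat D *ᵥ fam e f z k = c • fam e f z k) :
    D * (w * D * w⁻¹) = w * D * w⁻¹ * D := by
  refine B.ext hF fun k => ?_
  obtain ⟨c, hc⟩ := hD k
  obtain ⟨k', rfl⟩ := cyc_surjective hm k
  obtain ⟨s, hs, hs'⟩ := hwB k'
  obtain ⟨c', hc'⟩ := hD k'
  have hH := conj_eig_vec hs hs' hc'
  rw [suMat_mulVec_mul, hH, mulVec_smul, hc, suMat_mulVec_mul, hc, mulVec_smul, hH, smul_comm]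

/-- Even dimension. -/
theorem two_gen_even {z : Fin 0 → Fin n → F} (B : Basis2 q m 0 e f z) (h2m : 2 ≤ m) :
    ∃ a b : SU n F q, Subgroup.closure ({a, b} : Set (SU n F q)) = ⊤ := by
  classical
  have hm : 0 < m := by omega
  obtain ⟨g, hg0, hgq, -, hord⟩ := exists_gen hF
  have h2 := two_le hF
  have h4 : 2 * q ≤ q ^ 2 := by rw [sq]; exact Nat.mul_le_mul_right q h2
  set i₀ : Fin m := ⟨0, hm⟩
  set i₁ : Fin m := ⟨1, h2m⟩
  have hne : i₀ ≠ i₁ := by simp [i₀, i₁, Fin.ext_iff]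
  obtain ⟨D, hDe, hDf, hDe1, hDf1, hDo, -⟩ := B.exists_torus2 hF hne (a := g) (b := g⁻¹) (c := 1)
    hg0 (inv_ne_zero hg0) (by simp) (by rw [inv_pow, mul_inv_cancel₀ hg0, one_pow, one_mul,
      mul_inv_cancel₀ (pow_ne_zero _ hg0)])
  have hDf1' : suMat D *ᵥ f i₁ = (g ^ q) • f i₁ := by rw [hDf1, inv_pow, inv_inv]
  obtain ⟨w, hwB⟩ := exists_cyc_su hF B hm
  have hee := B.ee
  have hf := B.hyp (hF := hF) i₀
  have hve : hermForm n F q (f i₁) (e i₀) = 0 := by rw [B.fe hF, if_neg hne.symm]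
  obtain ⟨x, hx⟩ := exists_isEich hF (hee i₀ i₀) (w := f i₁) (γ := 0) hve
    (by rw [B.ff, zero_pow (q_ne_zero hF)]; ring)
  refine ⟨D, x * w, ?_⟩
  set K := Subgroup.closure ({D, x * w} : Set (SU n F q))
  have hDK : D ∈ K := Subgroup.subset_closure (Or.inl rfl)
  have hbK : x * w ∈ K := Subgroup.subset_closure (Or.inr rfl)
  set H := w * D * w⁻¹ with hH
  have hHK : x * H * x⁻¹ ∈ K := by
    rw [show x * H * x⁻¹ = (x * w) * D * (x * w)⁻¹ by rw [hH]; group]
    exact mul_mem (mul_mem hbK hDK) (inv_mem hbK)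
  have hDall : ∀ k, ∃ c : F, suMat D *ᵥ fam e f z k = c • fam e f z k := by
    rintro ((i | i) | k)
    · by_cases h0 : i = i₀
      · exact ⟨g, by subst h0; exact hDe⟩
      by_cases h1 : i = i₁
      · exact ⟨g⁻¹, by subst h1; exact hDe1⟩
      exact ⟨1, by rw [one_smul]; exact (hDo i h0 h1).1⟩
    · by_cases h0 : i = i₀
      · exact ⟨(g ^ q)⁻¹, by subst h0; exact hDf⟩
      by_cases h1 : i = i₁
      · exact ⟨g ^ q, by subst h1; exact hDf1'⟩
      exact ⟨1, by rw [one_smul]; exact (hDo i h0 h1).2⟩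
    · exact k.elim0
  obtain ⟨l', hl', hHe⟩ : ∃ l' : F, (l' = 1 ∨ l' = g ^ q) ∧ suMat H *ᵥ e i₀ = l' • e i₀ := by
    set j : Fin m := ⟨m - 1, by omega⟩
    obtain ⟨s, hs, hsv⟩ := w_f_last hwB (i := j) (show ¬ (m - 1 + 1 < m) by omega)
    by_cases hj : j = i₁
    · exact ⟨g ^ q, Or.inr rfl, conj_eig_vec hs hsv (by rw [hj]; exact hDf1')⟩
    · have h0 : j ≠ i₀ := by simp [j, i₀, Fin.ext_iff]; omega
      exact ⟨1, Or.inl rfl, conj_eig_vec hs hsv (by rw [one_smul]; exact (hDo j h0 hj).2)⟩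
  obtain ⟨t, ht, htv⟩ := w_f hwB (i := i₀) (show (0 : ℕ) + 1 < m by omega)
  have hHv : suMat H *ᵥ f i₁ = (g ^ q)⁻¹ • f i₁ := conj_eig_vec ht htv hDf
  have hgq0 : g ^ q ≠ 0 := pow_ne_zero _ hg0
  have hgq1 : g ^ q ≠ 1 := hord q (by omega) (by omega)
  have hχ : l' ^ q * (g ^ q)⁻¹ ≠ 1 := by
    rcases hl' with rfl | rfl
    · rw [one_pow, one_mul]; exact inv_ne_one.2 hgq1
    · rw [← pow_mul, ← sq, hgq]
      intro h
      rw [mul_inv_eq_one₀ hgq0] at h
      refine hord (q - 1) (by omega) (by omega) (mul_right_cancel₀ hg0 ?_)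
      rw [← pow_succ, show q - 1 + 1 = q by omega, one_mul, ← h]
  have hy : ∀ j, 0 < j → j < q → (g ^ q * g ^ q) ^ j ≠ 1 := fun j hj hj' h => by
    refine hord (2 * j) (by omega) (by omega) ?_
    have := congrArg (· ^ q) h
    simp only [one_pow] at this
    rw [← pow_two, ← pow_mul, ← pow_mul, ← pow_mul,
      show q * (2 * (j * q)) = q ^ 2 * (2 * j) by ring, pow_mul g (q ^ 2), hgq] at this
    exact this
  have hS := short_all hF hf hve (B.ff i₁ i₁) hDe hDf1' hHe hHv (torus_comm hF B hm hwB hDall) hx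
    hDK hHK (mul_ne_zero hgq0 hgq0) hy (by
      simpa using hy 1 one_pos (by omega)) hχ
  have hxK : x ∈ K := by
    obtain ⟨g', hg', h⟩ := hS 1
    rw [one_smul] at h
    rwa [hx.unique h]
  exact eq_top_of hF B hwB h2m ((K.mul_mem_cancel_left hxK).1 hbK) hS fun k => k.elim0

/-- Odd dimension, `q ≥ 3`. -/
theorem two_gen_odd {z : Fin 1 → Fin n → F} (B : Basis2 q m 1 e f z) (h2m : 2 ≤ m) (hq : 3 ≤ q) :
    ∃ a b : SU n F q, Subgroup.closure ({a, b} : Set (SU n F q)) = ⊤ := by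
  classical
  have hm : 0 < m := by omega
  obtain ⟨g, hg0, hgq, hμ, hord⟩ := exists_gen hF
  have h3 : 3 * q ≤ q ^ 2 := by rw [sq]; exact Nat.mul_le_mul_right q hq
  set i₀ : Fin m := ⟨0, hm⟩
  set i₁ : Fin m := ⟨1, h2m⟩
  have hne : i₀ ≠ i₁ := by simp [i₀, i₁, Fin.ext_iff]
  obtain ⟨D, hDe, hDf, hDe1, hDf1, hDo, hDz⟩ := B.exists_torus2 hF hne (a := g) (b := 1)
    (c := g ^ (q - 1)) hg0 one_ne_zero hμ (by
      rw [pow_one, one_pow, mul_one, mul_one, ← pow_succ', show q - 1 + 1 = q by omega])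
  have hDf1' : suMat D *ᵥ f i₁ = (1 : F) • f i₁ := by rw [hDf1, one_pow, inv_one]
  have hDe1' : suMat D *ᵥ e i₁ = (1 : F) • e i₁ := hDe1
  obtain ⟨w, hwB⟩ := exists_cyc_su hF B hm
  have hf := B.hyp (hF := hF) i₀
  have hve : hermForm n F q (f i₁) (e i₀) = 0 := by rw [B.fe hF, if_neg hne.symm]
  obtain ⟨γ, hγ⟩ := exists_trace_eq hF (c := (-1 : F)) (by rw [neg_pow_q hF, one_pow])
  obtain ⟨x, hx⟩ := exists_isEich hF (B.ee i₀ i₀) (w := f i₁ + z 0) (γ := γ)
    (by rw [h_add_left, hve, B.ze, add_zero])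
    (by rw [h_add_left, h_add_right hF, h_add_right hF, B.ff, B.fz hF, B.zf, B.zz, if_pos rfl]
        linear_combination hγ)
  refine ⟨D, x * w, ?_⟩
  set K := Subgroup.closure ({D, x * w} : Set (SU n F q))
  have hDK : D ∈ K := Subgroup.subset_closure (Or.inl rfl)
  have hbK : x * w ∈ K := Subgroup.subset_closure (Or.inr rfl)
  set H := w * D * w⁻¹ with hH
  have hHK : x * H * x⁻¹ ∈ K := by
    rw [show x * H * x⁻¹ = (x * w) * D * (x * w)⁻¹ by rw [hH]; group]
    exact mul_mem (mul_mem hbK hDK) (inv_mem hbK)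
  have hDall : ∀ k, ∃ c : F, suMat D *ᵥ fam e f z k = c • fam e f z k := by
    rintro ((i | i) | k)
    · by_cases h0 : i = i₀
      · exact ⟨g, by subst h0; exact hDe⟩
      by_cases h1 : i = i₁
      · exact ⟨1, by subst h1; exact hDe1'⟩
      exact ⟨1, by rw [one_smul]; exact (hDo i h0 h1).1⟩
    · by_cases h0 : i = i₀
      · exact ⟨(g ^ q)⁻¹, by subst h0; exact hDf⟩
      by_cases h1 : i = i₁
      · exact ⟨1, by subst h1; exact hDf1'⟩
      exact ⟨1, by rw [one_smul]; exact (hDo i h0 h1).2⟩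
    · exact ⟨_, hDz k⟩
  have hHe : suMat H *ᵥ e i₀ = e i₀ := by
    set j : Fin m := ⟨m - 1, by omega⟩
    obtain ⟨s, hs, hsv⟩ := w_f_last hwB (i := j) (show ¬ (m - 1 + 1 < m) by omega)
    have hj : suMat D *ᵥ f j = (1 : F) • f j := by
      by_cases hj : j = i₁
      · rw [hj]; exact hDf1'
      · have h0 : j ≠ i₀ := by simp [j, i₀, Fin.ext_iff]; omega
        rw [one_smul]; exact (hDo j h0 hj).2
    exact (conj_eig_vec hs hsv hj).trans (one_smul F _)
  obtain ⟨t, ht, htv⟩ := w_f hwB (i := i₀) (show (0 : ℕ) + 1 < m by omega)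
  obtain ⟨u, hu, huv⟩ := w_z hwB 0
  have hHv : suMat H *ᵥ f i₁ = (g ^ q)⁻¹ • f i₁ := conj_eig_vec ht htv hDf
  have hHz : suMat H *ᵥ z 0 = g ^ (q - 1) • z 0 := conj_eig_vec hu huv (hDz 0)
  have hgq0 : g ^ q ≠ 0 := pow_ne_zero _ hg0
  have hy : ∀ j, 0 < j → j < q → (g ^ q * 1) ^ j ≠ 1 := fun j hj hj' h => by
    refine hord j hj (by omega) ?_
    have := congrArg (· ^ q) h
    simp only [one_pow, mul_one] at this
    rw [← pow_mul, ← pow_mul, show q * (j * q) = q ^ 2 * j by ring, pow_mul g (q ^ 2), hgq] at this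
    exact this
  have hzy : ∀ j, 0 < j → j < q → (g ^ q * g ^ (q - 1)) ^ j ≠ 1 := fun j hj hj' h => by
    refine hord (3 * j) (by omega) (by omega) ?_
    have hcard : g ^ (q ^ 2 - 1) = 1 := by
      refine mul_right_cancel₀ hg0 ?_
      rw [← pow_succ, show q ^ 2 - 1 + 1 = q ^ 2 by omega, hgq, one_mul]
    have := congrArg (· ^ (2 * q + 1)) h
    simp only [one_pow] at this
    obtain ⟨p, rfl⟩ := Nat.exists_eq_add_of_le hq
    rw [← pow_add, ← pow_mul, ← pow_mul] at this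
    have e1 : (3 + p + (3 + p - 1)) * (j * (2 * (3 + p) + 1)) = 3 * j + ((3 + p) ^ 2 - 1) * (4 * j) := by
      have h1 : 3 + p - 1 = 2 + p := by omega
      have h2 : (3 + p) ^ 2 - 1 = p ^ 2 + 6 * p + 8 := by
        have : (3 + p) ^ 2 = p ^ 2 + 6 * p + 8 + 1 := by ring
        omega
      rw [h1, h2]; ring
    rw [e1, pow_add, pow_mul g ((3 + p) ^ 2 - 1), hcard, one_pow, mul_one] at this
    exact this
  obtain ⟨hS, hz, hxK⟩ := mixed_all hF hf hve (B.ff i₁ i₀) (B.ff i₁ i₁) (B.ze 0 i₀) (B.zf 0 i₀)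
    (by rw [B.zz, if_pos rfl]) hDe hDf1' (hDz 0) hHe hHv hHz (torus_comm hF B hm hwB hDall) hx
    hDK hHK (by simpa using hgq0) hy (by simpa using hy 1 one_pos (by omega))
    (mul_ne_zero hgq0 (pow_ne_zero _ hg0)) hzy (by simpa using hzy 1 one_pos (by omega))
    (hord (q - 1) (by omega) (by omega)) (by rw [mul_one, mul_inv_cancel₀ hgq0])
    (by rw [← pow_add, ← pow_add]; exact hord _ (by omega) (by omega))
  exact eq_top_of hF B hwB h2m ((K.mul_mem_cancel_left hxK).1 hbK) hS fun k c => by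
    rw [Fin.eq_zero k]; exact hz c

/-- Odd dimension, `q = 2`. -/
theorem two_gen_odd_two {z : Fin 1 → Fin n → F} (B : Basis2 q m 1 e f z) (h2m : 2 ≤ m) (hq : q = 2) :
    ∃ a b : SU n F q, Subgroup.closure ({a, b} : Set (SU n F q)) = ⊤ := by
  classical
  subst hq
  have hm : 0 < m := by omega
  obtain ⟨g, hg0, -, hμ, hord⟩ := exists_gen hF
  have hg1 : g ≠ 1 := by simpa using hord 1 one_pos (by norm_num)
  have hg2 : g ^ 2 ≠ 1 := hord 2 (by norm_num) (by norm_num)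
  have hg3 : g ^ 3 = 1 := by
    have := FiniteField.pow_card_sub_one_eq_one g hg0
    rwa [hF] at this
  have htwo : (2 : F) = 0 := four_two_eq_zero hF
  set i₀ : Fin m := ⟨0, hm⟩
  set i₁ : Fin m := ⟨1, h2m⟩
  have hne : i₀ ≠ i₁ := by simp [i₀, i₁, Fin.ext_iff]
  obtain ⟨D, hDe, hDf, hDe1, hDf1, hDo, hDz⟩ := B.exists_torus2 hF hne (a := g) (b := 1)
    (c := g) hg0 one_ne_zero (by rw [← pow_succ', hg3]) (by ring)
  have hDf1' : suMat D *ᵥ f i₁ = (1 : F) • f i₁ := by rw [hDf1, one_pow, inv_one]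
  obtain ⟨w, hwB⟩ := exists_cyc_su hF B hm
  have hf := B.hyp (hF := hF) i₀
  have hve : hermForm n F 2 (f i₁) (e i₀) = 0 := by rw [B.fe hF, if_neg hne.symm]
  obtain ⟨x, hx⟩ := exists_isEich hF (B.ee i₀ i₀) (w := f i₁) (γ := 0) hve
    (by rw [B.ff]; ring)
  obtain ⟨γ, hγ⟩ := exists_trace_eq hF (c := (-1 : F)) (by rw [neg_pow_q hF, one_pow])
  obtain ⟨Z, hZ⟩ := exists_isEich hF (B.ee i₀ i₀) (w := z 0) (γ := γ) (B.ze 0 i₀)
    (by rw [B.zz, if_pos rfl]; linear_combination hγ)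
  refine ⟨D * Z, x * w, ?_⟩
  set K := Subgroup.closure ({D * Z, x * w} : Set (SU n F 2))
  have hDall : ∀ k, ∃ c : F, c ^ 3 = 1 ∧ suMat D *ᵥ fam e f z k = c • fam e f z k := by
    rintro ((i | i) | k)
    · by_cases h0 : i = i₀
      · exact ⟨g, hg3, by subst h0; exact hDe⟩
      by_cases h1 : i = i₁
      · exact ⟨1, one_pow 3, by subst h1; exact hDe1⟩
      exact ⟨1, one_pow 3, by rw [one_smul]; exact (hDo i h0 h1).1⟩
    · by_cases h0 : i = i₀
      · exact ⟨(g ^ 2)⁻¹, by rw [inv_pow, ← pow_mul, show 2 * 3 = 3 * 2 from rfl, pow_mul, hg3,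
          one_pow, inv_one], by subst h0; exact hDf⟩
      by_cases h1 : i = i₁
      · exact ⟨1, one_pow 3, by subst h1; exact hDf1'⟩
      exact ⟨1, one_pow 3, by rw [one_smul]; exact (hDo i h0 h1).2⟩
    · exact ⟨g, hg3, hDz k⟩
  have hD3 : D ^ 3 = 1 := B.ext hF fun k => by
    obtain ⟨c, hc, hv⟩ := hDall k
    rw [pow_three, suMat_mulVec_mul, suMat_mulVec_mul, hv, mulVec_smul, hv, mulVec_smul,
      mulVec_smul, hv, smul_smul, smul_smul, suMat_one, one_mulVec,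
      show c * c * c = 1 by rw [← hc]; ring, one_smul]
  have hDZ : Commute D Z := by
    have := conj_eig hF hZ hDe (w' := g • z 0) (hDz 0)
    rw [smul_smul, ← pow_succ, hg3, one_smul, ← pow_succ', hg3, mul_one] at this
    exact mul_inv_eq_iff_eq_mul.1 (this.unique hZ)
  have hZ4 : Z ^ 4 = 1 := by
    have h2 := hZ.mul hF hZ hf.1 (B.ze 0 i₀) (B.ze 0 i₀)
    rw [← two_smul F (z 0), htwo, zero_smul] at h2
    have h4 := h2.mul hF h2 hf.1 (h_zero_left _) (h_zero_left _)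
    rw [add_zero, h_zero_left, sub_zero, ← two_mul, htwo, zero_mul] at h4
    rw [show 4 = 2 * 2 from rfl, pow_mul, pow_two, pow_two]
    exact eq_one_of_zero hF h4
  have haK : D * Z ∈ K := Subgroup.subset_closure (Or.inl rfl)
  have hbK : x * w ∈ K := Subgroup.subset_closure (Or.inr rfl)
  have hDK : D ∈ K := by
    have h := K.pow_mem haK 4
    rwa [hDZ.mul_pow, hZ4, mul_one, show 4 = 3 + 1 from rfl, pow_succ, hD3, one_mul] at h
  have hZK : Z ∈ K := (K.mul_mem_cancel_left hDK).1 haK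
  set H := w * D * w⁻¹ with hH
  have hHK : x * H * x⁻¹ ∈ K := by
    rw [show x * H * x⁻¹ = (x * w) * D * (x * w)⁻¹ by rw [hH]; group]
    exact mul_mem (mul_mem hbK hDK) (inv_mem hbK)
  have hHe : suMat H *ᵥ e i₀ = (1 : F) • e i₀ := by
    set j : Fin m := ⟨m - 1, by omega⟩
    obtain ⟨s, hs, hsv⟩ := w_f_last hwB (i := j) (show ¬ (m - 1 + 1 < m) by omega)
    have hj : suMat D *ᵥ f j = (1 : F) • f j := by
      by_cases hj : j = i₁
      · rw [hj]; exact hDf1'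
      · have h0 : j ≠ i₀ := by simp [j, i₀, Fin.ext_iff]; omega
        rw [one_smul]; exact (hDo j h0 hj).2
    exact conj_eig_vec hs hsv hj
  obtain ⟨t, ht, htv⟩ := w_f hwB (i := i₀) (show (0 : ℕ) + 1 < m by omega)
  obtain ⟨u, hu, huv⟩ := w_z hwB 0
  have hHv : suMat H *ᵥ f i₁ = (g ^ 2)⁻¹ • f i₁ := conj_eig_vec ht htv hDf
  have hHz : suMat H *ᵥ z 0 = g • z 0 := conj_eig_vec hu huv (hDz 0)
  have hy : ∀ j, 0 < j → j < 2 → (g ^ 2 * 1) ^ j ≠ 1 := fun j hj hj' => by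
    obtain rfl : j = 1 := by omega
    simpa using hg2
  have hS := short_all hF hf hve (B.ff i₁ i₁) hDe hDf1' hHe hHv
    (torus_comm hF B hm hwB fun k => (hDall k).imp fun _ h => h.2) hx hDK hHK
    (by simpa using hg0) hy (by simpa using hg2) (by simpa using hg2)
  have hxK : x ∈ K := by
    obtain ⟨g', hg', h⟩ := hS 1
    rw [one_smul] at h
    rwa [hx.unique h]
  have hwK : w ∈ K := (K.mul_mem_cancel_left hxK).1 hbK
  have hHK' : H ∈ K := mul_mem (mul_mem hwK hDK) (inv_mem hwK)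
  set M := radParts K (e i₀) (f i₀)
  have hzM : z 0 ∈ M := mem_radParts_of_isEich hF hf hZ hZK (B.ze 0 i₀)
  let A : AddSubgroup F :=
    { carrier := {s | s • z 0 ∈ M}
      zero_mem' := by show (0 : F) • z 0 ∈ M; rw [zero_smul]; exact M.zero_mem
      add_mem' := fun {s t} hs ht => by
        show (s + t) • z 0 ∈ M; rw [add_smul]; exact add_mem hs ht
      neg_mem' := fun {s} hs => by show (-s) • z 0 ∈ M; rw [neg_smul]; exact neg_mem hs }
  have hA : ∀ s : F, s • z 0 ∈ M := fun s =>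
    addSubgroup_top hF hg0 (fun j hj hj' => by
      obtain rfl : j = 1 := by omega
      simpa using hg1) A (fun s hs => by
      have := conj_mem_radParts hF hf hHK' hHe hs
      rwa [one_pow, one_smul, mulVec_smul, hHz, smul_smul, mul_comm] at this)
      (c := 1) (show (1 : F) • z 0 ∈ M by rwa [one_smul]) one_ne_zero s
  exact eq_top_of hF B hwB h2m hwK hS fun k c => by rw [Fin.eq_zero k]; exact hA c

theorem su_two_generated (hn : 3 ≤ n) (h32 : n = 3 → q ≠ 2) :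
    ∃ a b : SU n F q, Subgroup.closure ({a, b} : Set (SU n F q)) = ⊤ := by
  have h2 := two_le hF
  by_cases h3 : n = 3
  · subst h3
    obtain ⟨u, g, -, hgen⟩ := exists_su3Two hF (show 3 ≤ q by have := h32 rfl; omega)
    exact ⟨u, g * u * g⁻¹, hgen⟩
  rcases Nat.even_or_odd' n with ⟨m, hm | hm⟩
  · obtain ⟨e, f, z, B⟩ := exists_basis2 hF (m := m) (r := 0) hm
    exact two_gen_even hF B (by omega)
  · obtain ⟨e, f, z, B⟩ := exists_basis2 hF (m := m) (r := 1) hm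
    rcases eq_or_lt_of_le h2 with h | h
    · exact two_gen_odd_two hF B (by omega) h.symm
    · exact two_gen_odd hF B (by omega) h

/-- The projective special unitary group is two-generated. -/
theorem psu_two_generated (hn : 3 ≤ n) (h32 : n = 3 → q ≠ 2) :
    ∃ a b : Cfsg.PSU n F q, Subgroup.closure ({a, b} : Set (Cfsg.PSU n F q)) = ⊤ := by
  obtain ⟨a, b, hab⟩ := su_two_generated hF hn h32
  let π : SU n F q →* Cfsg.PSU n F q := QuotientGroup.mk' _
  refine ⟨π a, π b, ?_⟩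
  rw [← Set.image_pair π a b, ← MonoidHom.map_closure, hab,
    Subgroup.map_top_of_surjective π (QuotientGroup.mk'_surjective _)]

end H45.SUTwo
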